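import Cfsg.Agent.H950.MaxTI
import Cfsg.Agent.H929.Herm
import Cfsg.Agent.H216.Pi.Cl

/-!
# S4324, geometry of one unitary similitude: a singular eigenvector (helper63)

`no_sing` : a unitary similitude of a space of dimension at least 4, scalar on the invariant sections, with a singular
eigenvector, is a scalar.
-/

set_option autoImplicit false

namespace Cfsg.Agent.H63.GU

open Module Cfsg.Agent.H951
open Cfsg.Agent.H216.Pi (Scal)

/-- a hermitian form on `W` -/
structure HForm {F : Type*} {W : Type*} [Field F] [AddCommGroup W] [Module F W] (σ : F ≃+* F) (h : W → W → F) :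
    Prop where
  add_left : ∀ u v w, h (u + v) w = h u w + h v w
  smul_left : ∀ (a : F) u v, h (a • u) v = a * h u v
  symm : ∀ u v, h v u = σ (h u v)
  nondeg : ∀ u, (∀ v, h u v = 0) → u = 0

/-- `X` acts as a scalar on `v^⊥ / v` -/
def PTs {F : Type*} {V : Type*} [Field F] [AddCommGroup V] [Module F V] (f : V → V → F) (X : V → V) (v : V) : Prop :=
  ∃ b : F, ∀ w, f v w = 0 → ∃ a : F, X w = b • w + a • v

theorem HForm.frm {F V : Type*} [Field F] [AddCommGroup V] [Module F V] {σ : F ≃+* F} {h : V → V → F}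
    (hh : HForm σ h) (hσ : ∀ a, σ (σ a) = a) : Frm (σ : F →+* F) 1 h :=
  ⟨hh.add_left, hh.smul_left, fun u v => by rw [one_mul]; exact hh.symm u v, hσ, one_ne_zero⟩

section sig

variable {F : Type*} [Field F] [Finite F] {q : ℕ}

theorem sig_sq (hF : Nat.card F = q ^ 2) {σ : F ≃+* F} (hσ : ∀ a, σ a = a ^ q) (a : F) : σ (σ a) = a := by
  letI := Fintype.ofFinite F
  rw [hσ, hσ, ← pow_mul, ← pow_two, ← hF, Nat.card_eq_fintype_card, FiniteField.pow_card]

theorem sig_ne (hF : Nat.card F = q ^ 2) {σ : F ≃+* F} (hσ : ∀ a, σ a = a ^ q) : σ ≠ RingEquiv.refl F := by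
  classical
  letI := Fintype.ofFinite F
  intro h
  have hq : 2 ≤ q := by
    have h1 : 1 < Nat.card F := Finite.one_lt_card
    rw [hF] at h1
    by_contra hq
    have : q = 0 ∨ q = 1 := by omega
    rcases this with rfl | rfl <;> simp at h1
  have h1 : ∀ a : F, a ^ q = a := fun a => by rw [← hσ, h]; rfl
  have h2 : Fintype.card F ≤ q := by
    have h3 := Polynomial.card_roots' (Polynomial.X ^ q - Polynomial.X : Polynomial F)
    rw [FiniteField.X_pow_card_sub_X_natDegree_eq F (by omega)] at h3
    have hne : (Polynomial.X ^ q - Polynomial.X : Polynomial F) ≠ 0 :=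
      FiniteField.X_pow_card_sub_X_ne_zero F (by omega)
    have h4 : (Finset.univ : Finset F) ⊆ (Polynomial.X ^ q - Polynomial.X : Polynomial F).roots.toFinset := by
      intro a _
      rw [Multiset.mem_toFinset, Polynomial.mem_roots hne, Polynomial.IsRoot.def, Polynomial.eval_sub,
        Polynomial.eval_pow, Polynomial.eval_X, h1, sub_self]
    calc Fintype.card F = (Finset.univ : Finset F).card := rfl
      _ ≤ _ := Finset.card_le_card h4
      _ ≤ _ := Multiset.toFinset_card_le _
      _ ≤ q := h3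
  rw [← Nat.card_eq_fintype_card, hF, pow_two] at h2
  nlinarith

end sig

section

variable {F V : Type*} [Field F] [AddCommGroup V] [Module F V] {σ : F ≃+* F} {B : V → V → F}

/-- A subspace of dimension at least 2 contains a singular vector. -/
theorem exists_sing [Finite F] (hB : Frm (σ : F →+* F) 1 B) (hne : σ ≠ RingEquiv.refl F) {W : Submodule F V}
    (hW : 2 ≤ finrank F W) : ∃ v ∈ W, v ≠ 0 ∧ B v v = 0 := by
  obtain ⟨f, hf⟩ := exists_linearIndependent_of_le_finrank (R := F) (M := W) hW
  have hf0 : f 0 ≠ 0 := hf.ne_zero 0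
  by_cases h0 : B (f 0 : V) (f 0 : V) = 0
  · exact ⟨_, (f 0).2, fun h => hf0 (Subtype.ext h), h0⟩
  · -- the component of `f 1` orthogonal to `f 0`
    set u : V := (f 0 : V) with hu
    set v : V := (f 1 : V) - (B (f 1 : V) u / B u u) • u with hv
    have hvu : B v u = 0 := by
      rw [hv, hB.sub_left, hB.smul_left, div_mul_cancel₀ _ h0, sub_self]
    have huv : B u v = 0 := hB.eq_zero_comm.1 hvu
    have hvW : v ∈ W := W.sub_mem (f 1).2 (W.smul_mem _ (f 0).2)
    have hv0 : v ≠ 0 := by
      intro h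
      rw [hv, sub_eq_zero] at h
      have h1 : f 1 = (B (f 1 : V) u / B u u) • f 0 := Subtype.ext h
      have h3 := (LinearIndependent.pair_iff.1 (by
        have : f = ![f 0, f 1] := by
          ext i
          fin_cases i <;> rfl
        rw [this] at hf
        exact hf)) (B (f 1 : V) u / B u u) (-1) (by rw [← h1, neg_one_smul, add_neg_cancel])
      exact absurd h3.2 (neg_ne_zero.2 one_ne_zero)
    by_cases h1 : B v v = 0
    · exact ⟨v, hvW, hv0, h1⟩
    · have hσσ : ∀ a, σ (σ a) = a := hB.sigma_sq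
      have hfu : σ (B u u) = B u u := by
        have := hB.herm u u
        rw [one_mul] at this
        exact this.symm
      have hfv : σ (B v v) = B v v := by
        have := hB.herm v v
        rw [one_mul] at this
        exact this.symm
      obtain ⟨s, hs⟩ := Cfsg.Agent.H929.exists_norm hσσ hne (-(B u u / B v v)) (by
        rw [map_neg, map_div₀, hfu, hfv])
      refine ⟨u + s • v, W.add_mem (f 0).2 (W.smul_mem _ hvW), ?_, ?_⟩
      · intro h
        have h2 : B (u + s • v) u = 0 := by rw [h, hB.zero_left]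
        rw [hB.add_left, hB.smul_left, hvu, mul_zero, add_zero] at h2
        exact h0 h2
      · rw [hB.add_left, hB.add_right, hB.add_right, hB.smul_left, hB.smul_left, hB.smul_right, hB.smul_right,
          huv, hvu, mul_zero, mul_zero, add_zero, zero_add]
        have h3 : s * ((σ : F →+* F) s * B v v) = (s * σ s) * B v v := by
          rw [mul_assoc]; rfl
        rw [h3, hs]
        field_simp
        ring

section sing

variable [Finite F] [FiniteDimensional F V] (hB : Frm (σ : F →+* F) 1 B) (hne : σ ≠ RingEquiv.refl F)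
  (hN : ∀ u, (∀ v, B u v = 0) → u = 0) {X : V ≃ₗ[F] V}

include hB hN in
/-- the dimension of `v^⊥` -/
theorem finrank_perp (W : Submodule F V) : finrank F W + finrank F (hB.perp W) = finrank F V := by
  have hnd : Nd B (⊤ : Submodule F V) := by
    intro u _ hu
    by_contra hcon
    push Not at hcon
    exact hu (hN u fun v => hcon v trivial)
  have := hB.finrank_perp_inf' hnd (W := W) le_top
  rwa [inf_top_eq, finrank_top] at this

include hB in
theorem mem_perp_span {v w : V} : w ∈ hB.perp (F ∙ v) ↔ B v w = 0 := by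
  rw [hB.mem_perp']
  constructor
  · intro h
    exact h v (Submodule.mem_span_singleton_self v)
  · intro h u hu
    obtain ⟨a, rfl⟩ := Submodule.mem_span_singleton.1 hu
    rw [hB.smul_left, h, mul_zero]

include hB hne in
/-- a singular vector of `W` outside `⟨v⟩` -/
theorem exists_sing_out {W : Submodule F V} {v : V} (hv : v ∈ W) (hv0 : v ≠ 0) (hW : 3 ≤ finrank F W) :
    ∃ w ∈ W, w ≠ 0 ∧ B w w = 0 ∧ ∀ a : F, a • v ≠ w := by
  have hle : (F ∙ v) ≤ W := (Submodule.span_singleton_le_iff_mem v W).2 hv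
  obtain ⟨T, hT1, hT2, hT3⟩ := exists_rel_compl' hle
  have h1 := finrank_sup_of_disj hT2
  rw [hT3, finrank_span_singleton hv0] at h1
  obtain ⟨w, hw, hw0, hww⟩ := exists_sing hB hne (W := T) (by omega)
  refine ⟨w, hT1 hw, hw0, hww, fun a ha => hw0 ?_⟩
  have : w ∈ (F ∙ v) ⊓ T := ⟨Submodule.mem_span_singleton.2 ⟨a, ha⟩, hw⟩
  rwa [hT2, Submodule.mem_bot] at this

include hB hne hN in
/-- **Step 1**: the section at a singular eigenvector. -/
theorem sec_sing {e : ℕ} (he : 2 * e ≤ finrank F V) (hN4 : 4 ≤ finrank F V)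
    (hiso : ∀ W : Submodule F V, (∀ u ∈ W, ∀ v ∈ W, B u v = 0) → (∀ v ∈ W, X v ∈ W) → 2 ≤ finrank F W →
      e ≤ finrank F W → ∃ a : F, ∀ v ∈ W, X v = a • v)
    (hpt : ∀ v, v ≠ 0 → B v v = 0 → (∃ a : F, X v = a • v) → PTs B (⇑X) v)
    {v : V} (hv0 : v ≠ 0) (hvv : B v v = 0) {α : F} (hα : X v = α • v) :
    ∀ w, B v w = 0 → ∃ a : F, X w = α • w + a • v := by
  obtain ⟨β, hβ⟩ := hpt v hv0 hvv ⟨α, hα⟩
  by_contra hcon
  have hαβ : β ≠ α := by
    rintro rfl
    exact hcon hβ
  -- a singular eigenvector for `β` in `v^⊥`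
  have hperp := finrank_perp hB hN (F ∙ v)
  rw [finrank_span_singleton hv0] at hperp
  obtain ⟨w, hw, hw0, hww, hwv⟩ := exists_sing_out hB hne (W := hB.perp (F ∙ v)) (v := v)
    ((mem_perp_span hB).2 hvv) hv0 (by omega)
  rw [mem_perp_span hB] at hw
  obtain ⟨a, ha⟩ := hβ w hw
  have hd : β - α ≠ 0 := sub_ne_zero.2 hαβ
  set w' : V := w + (a / (β - α)) • v with hw'
  have hXw' : X w' = β • w' := by
    rw [hw', map_add, map_smul, ha, hα, smul_add, smul_smul, smul_smul, add_assoc, ← add_smul]
    congr 2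
    field_simp
    ring
  have hw'v : B v w' = 0 := by rw [hw', hB.add_right, hw, hB.smul_right, hvv, mul_zero, add_zero]
  have hwv' : B w' v = 0 := hB.eq_zero_comm.1 hw'v
  have hw'w' : B w' w' = 0 := by
    rw [hw', hB.add_right, hB.add_left, hww, hB.smul_right, hB.smul_left, ← hw', hwv', hw, mul_zero, mul_zero,
      add_zero, add_zero]
  have hind : ∀ x y : F, x • v + y • w' = 0 → x = 0 ∧ y = 0 := by
    intro x y hxy
    have hy : y = 0 := by
      by_contra hy
      apply hwv (-(x / y + a / (β - α)))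
      have h1 : w' = -(x / y) • v := by
        have h2 : y • w' = -(x • v) := by rw [eq_neg_iff_add_eq_zero, add_comm]; exact hxy
        have h3 : w' = y⁻¹ • (y • w') := by rw [smul_smul, inv_mul_cancel₀ hy, one_smul]
        rw [h3, h2, smul_neg, smul_smul, neg_smul]
        congr 2
        field_simp
      have h4 : w = w' - (a / (β - α)) • v := by rw [hw']; abel
      rw [h4, h1, ← sub_smul]
      congr 1
      ring
    rw [hy, zero_smul, add_zero] at hxy
    exact ⟨(smul_eq_zero.1 hxy).resolve_right hv0, hy⟩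
  have hw'0 : w' ≠ 0 := by
    intro h
    have := hind 0 1 (by rw [h, zero_smul, smul_zero, add_zero])
    exact one_ne_zero this.2
  -- the plane
  set P : Submodule F V := Submodule.span F {v, w'} with hP
  have hPmem : ∀ z, z ∈ P ↔ ∃ x y : F, x • v + y • w' = z := fun z => Submodule.mem_span_pair
  have hli : LinearIndependent F ![v, w'] := LinearIndependent.pair_iff.2 hind
  have hP2 : finrank F P = 2 := by
    have h1 := finrank_span_eq_card hli
    rw [Fintype.card_fin] at h1
    have h2 : Set.range ![v, w'] = {v, w'} := by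
      rw [Matrix.range_cons, Matrix.range_cons, Matrix.range_empty, Set.union_empty]
      rfl
    rw [h2] at h1
    exact h1
  rcases Nat.lt_or_ge 4 (finrank F V) with h5 | h4
  · -- dimension at least 5
    obtain ⟨β', hβ'⟩ := hpt w' hw'0 hw'w' ⟨β, hXw'⟩
    obtain ⟨a1, ha1⟩ := hβ' v hwv'
    have h6 : (α - β') • v + (-a1) • w' = 0 := by
      rw [sub_smul, neg_smul, ← hα, ha1]; abel
    have h7 : α = β' := sub_eq_zero.1 (hind _ _ h6).1
    have h8 := finrank_perp hB hN P
    obtain ⟨u, hu, huP⟩ : ∃ u ∈ hB.perp P, u ∉ P := by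
      by_contra hc
      push Not at hc
      have := Submodule.finrank_mono (show hB.perp P ≤ P from hc)
      omega
    have huv : B v u = 0 := hB.mem_perp'.1 hu v ((hPmem v).2 ⟨1, 0, by rw [one_smul, zero_smul, add_zero]⟩)
    have huw : B w' u = 0 := hB.mem_perp'.1 hu w' ((hPmem w').2 ⟨0, 1, by rw [one_smul, zero_smul, zero_add]⟩)
    obtain ⟨a2, ha2⟩ := hβ u huv
    obtain ⟨a3, ha3⟩ := hβ' u huw
    apply huP
    rw [hPmem]
    refine ⟨(β - α)⁻¹ * (-a2), (β - α)⁻¹ * a3, ?_⟩
    have h9 : (β - α) • u = (-a2) • v + a3 • w' := by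
      rw [sub_smul, neg_smul]
      rw [ha3, ← h7] at ha2
      have : β • u = α • u + a3 • w' - a2 • v := by rw [ha2]; abel
      rw [this]; abel
    rw [mul_smul, mul_smul, ← smul_add, ← h9, smul_smul, inv_mul_cancel₀ hd, one_smul]
  · -- dimension 4
    obtain ⟨b, hb⟩ := hiso P (by
      intro y hy z hz
      obtain ⟨y1, y2, rfl⟩ := (hPmem y).1 hy
      obtain ⟨z1, z2, rfl⟩ := (hPmem z).1 hz
      rw [hB.add_left, hB.add_right, hB.add_right, hB.smul_left, hB.smul_left, hB.smul_left, hB.smul_left,
        hB.smul_right, hB.smul_right, hB.smul_right, hB.smul_right, hvv, hw'v, hwv', hw'w']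
      simp) (by
      intro z hz
      obtain ⟨z1, z2, rfl⟩ := (hPmem z).1 hz
      rw [hPmem]
      refine ⟨z1 * α, z2 * β, ?_⟩
      rw [map_add, map_smul, map_smul, hα, hXw', smul_smul, smul_smul]) (by omega) (by omega)
    have h10 := hb v ((hPmem v).2 ⟨1, 0, by rw [one_smul, zero_smul, add_zero]⟩)
    have h11 := hb w' ((hPmem w').2 ⟨0, 1, by rw [one_smul, zero_smul, zero_add]⟩)
    rw [hα] at h10
    rw [hXw'] at h11
    have h12 : α = b := by
      have : (α - b) • v = 0 := by rw [sub_smul, h10, sub_self]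
      exact sub_eq_zero.1 ((smul_eq_zero.1 this).resolve_right hv0)
    have h13 : β = b := by
      have : (β - b) • w' = 0 := by rw [sub_smul, h11, sub_self]
      exact sub_eq_zero.1 ((smul_eq_zero.1 this).resolve_right hw'0)
    exact hαβ (h13.trans h12.symm)

end sing

end

end Cfsg.Agent.H63.GU
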