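import Cfsg.Agent.H63.GU.Geo

/-!
# S4324, geometry of one unitary similitude (helper63)

`geo_su`, `geo_su_three` of `tools/plans/S4324_stubs2.lean.txt`.
-/

set_option autoImplicit false

namespace Cfsg.Agent.H63.GU

open Module Cfsg.Agent.H951
open Cfsg.Agent.H216.Pi (Scal)

section

variable {F V : Type*} [Field F] [AddCommGroup V] [Module F V] {σ : F ≃+* F} {B : V → V → F}

/-- polarization: all vectors singular -/
theorem ti_of_diag (hB : Frm (σ : F →+* F) 1 B) (hne : σ ≠ RingEquiv.refl F) {W : Submodule F V}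
    (h : ∀ z ∈ W, B z z = 0) : TI B W := by
  intro z hz y hy
  obtain ⟨l, hl⟩ : ∃ l, σ l ≠ l := by
    by_contra hc
    push Not at hc
    exact hne (RingEquiv.ext hc)
  have h1 : ∀ s : F, s * B z y + σ s * B y z = 0 := by
    intro s
    have h2 := h (s • z + y) (W.add_mem (W.smul_mem _ hz) hy)
    rw [hB.add_left, hB.add_right, hB.add_right, hB.smul_left, hB.smul_left, hB.smul_right,
      hB.smul_right, h z hz, h y hy, mul_zero, mul_zero, add_zero, zero_add] at h2
    exact h2
  have h3 := h1 1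
  rw [map_one, one_mul, one_mul] at h3
  have h4 := h1 l
  rw [eq_neg_of_add_eq_zero_right h3, mul_neg, ← sub_eq_add_neg, ← sub_mul] at h4
  exact (mul_eq_zero.1 h4).resolve_left (sub_ne_zero.2 (Ne.symm hl))

theorem nd_top (hN : ∀ u, (∀ v, B u v = 0) → u = 0) : Nd B (⊤ : Submodule F V) := by
  intro u _ hu
  by_contra hcon
  push Not at hcon
  exact hu (hN u fun v => hcon v trivial)

variable [FiniteDimensional F V]

theorem nd_perp (hB : Frm (σ : F →+* F) 1 B) (hN : ∀ u, (∀ v, B u v = 0) → u = 0) {W : Submodule F V}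
    (h : Nd B W) : Nd B (hB.perp W) := by
  have := hB.nd_perp_inf (nd_top hN) h le_top
  rwa [inf_top_eq] at this

theorem inv_perp (hB : Frm (σ : F →+* F) 1 B) {X : V ≃ₗ[F] V} {c : F} (hc : ∀ u v, B (X u) (X v) = c * B u v)
    (W : Submodule F V) (hW : Inv (en X) W) : Inv (en X) (hB.perp W) :=
  inv_perp_of_sim hB hc X.injective hW

end

/-- **One similitude, dimension at least 4.** -/
theorem geo_su {F : Type*} {V : Type*} [Field F] [Finite F] [AddCommGroup V] [Module F V] [FiniteDimensional F V]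
    {q : ℕ} (hF : Nat.card F = q ^ 2) {σ : F ≃+* F} (hσ : ∀ a, σ a = a ^ q) {h : V → V → F} (hh : HForm σ h)
    {p : ℕ} (hp : p.Prime) (X : V ≃ₗ[F] V) {c : F} (hc : ∀ u v, h (X u) (X v) = c * h u v) (hXp : Scal F ⇑(X ^ p))
    {e : ℕ} (he : 1 ≤ e) (hN : 2 * e ≤ Module.finrank F V) (hN4 : 4 ≤ Module.finrank F V)
    (hiso : ∀ W : Submodule F V, (∀ u ∈ W, ∀ v ∈ W, h u v = 0) → (∀ v ∈ W, X v ∈ W) → 2 ≤ Module.finrank F W →
      e ≤ Module.finrank F W → ∃ a : F, ∀ v ∈ W, X v = a • v)
    (hpt : ∀ v, v ≠ 0 → h v v = 0 → (∃ a : F, X v = a • v) → PTs h (⇑X) v)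
    (hns : ∀ W : Submodule F V, (∀ u ∈ W, (∀ v ∈ W, h u v = 0) → u = 0) → (∀ v ∈ W, X v ∈ W) → W ≠ ⊤ →
      2 ≤ Module.finrank F W → e ≤ Module.finrank F W → ∃ a : F, ∀ v ∈ W, X v = a • v) :
    Scal F ⇑X ∨ ∀ W : Submodule F V, (∀ v ∈ W, X v ∈ W) → W = ⊥ ∨ W = ⊤ := by
  classical
  have hB := hh.frm (sig_sq hF hσ)
  have hne := sig_ne hF hσ
  have hN' := hh.nondeg
  by_cases hS : Scal F ⇑X
  · exact Or.inl hS
  refine Or.inr fun W hW => ?_
  by_contra hcon
  push Not at hcon
  have hsing : ∀ v, v ≠ 0 → h v v = 0 → ∀ α : F, X v ≠ α • v := fun v hv0 hvv α hα =>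
    hS ⟨α, no_sing hB hne hN' hN hN4 hiso hpt hv0 hvv hα⟩
  -- nondegenerate invariant subspaces
  have hnd1 : ∀ U : Submodule F V, Inv (en X) U → Nd h U → U ≠ ⊤ → finrank F V ≤ 2 * finrank F U → False := by
    intro U hU hUn hUt hd
    obtain ⟨a, ha⟩ := hns U (by
      intro u hu h1
      by_contra hu0
      obtain ⟨v, hv, hv1⟩ := hUn u hu hu0
      exact hv1 (h1 v hv)) hU hUt (by omega) (by omega)
    obtain ⟨v, hv, hv0, hvv⟩ := exists_sing hB hne (W := U) (by omega)
    exact hsing v hv0 hvv a (ha v hv)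
  have hnd : ∀ U : Submodule F V, Inv (en X) U → Nd h U → U ≠ ⊥ → U ≠ ⊤ → False := by
    intro U hU hUn hU0 hUt
    have h1 := finrank_perp hB hN' U
    rcases Nat.lt_or_ge (2 * finrank F U) (finrank F V) with h2 | h2
    · refine hnd1 (hB.perp U) (inv_perp hB hc U hU) (nd_perp hB hN' hUn) ?_ (by omega)
      intro h3
      rw [h3, finrank_top] at h1
      exact hU0 (Submodule.finrank_eq_zero.1 (by omega))
    · exact hnd1 U hU hUn hUt h2
  -- a minimal one
  obtain ⟨U, hUW, hU⟩ := exists_irr (x := en X) (W := W) hW hcon.1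
  obtain ⟨hU0, hUi, hUm⟩ := hU
  have hUt : U ≠ ⊤ := fun h1 => hcon.2 (top_le_iff.1 (h1 ▸ hUW))
  rcases hUm _ inf_le_left (hUi.inf (inv_perp hB hc U hUi)) with h1 | h1
  · exact hnd U hUi (hB.nd_iff.2 h1) hU0 hUt
  · have hti : TI h U := by
      rw [hB.ti_iff]
      exact inf_eq_left.1 h1
    have hUsc : (∃ a : F, ∀ v ∈ U, X v = a • v) → False := by
      rintro ⟨a, ha⟩
      obtain ⟨v, hv, hv0⟩ := (Submodule.ne_bot_iff U).1 hU0
      exact hsing v hv0 (hti v hv v hv) a (ha v hv)
    by_cases hpF : (p : F) = 0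
    · obtain ⟨b, hb⟩ := exists_nilp X hp hpF hXp
      set D : Module.End F V := en X - b • (1 : Module.End F V) with hD
      have hDv : ∀ v, D v = X v - b • v := fun v => rfl
      have hDi : Inv (en X) (LinearMap.ker D) := by
        intro v hv
        rw [LinearMap.mem_ker, hDv, sub_eq_zero] at hv
        rw [LinearMap.mem_ker, hDv]
        show X (X v) - b • X v = 0
        rw [hv, map_smul, hv, sub_self]
      rcases hUm _ inf_le_left (hUi.inf hDi) with h2 | h2
      · -- `D` is injective on `U`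
        have hinj : ∀ v ∈ U, D v = 0 → v = 0 := by
          intro v hv hv1
          have : v ∈ U ⊓ LinearMap.ker D := ⟨hv, hv1⟩
          rwa [h2, Submodule.mem_bot] at this
        have hDU : ∀ v ∈ U, D v ∈ U := fun v hv => U.sub_mem (hUi v hv) (U.smul_mem _ hv)
        have hpow : ∀ (n : ℕ) (v : V), v ∈ U → (D ^ n) v ∈ U ∧ ((D ^ n) v = 0 → v = 0) := by
          intro n
          induction n with
          | zero => intro v hv; exact ⟨hv, fun h => h⟩
          | succ n ih =>
            intro v hv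
            rw [pow_succ', Module.End.mul_apply]
            exact ⟨hDU _ (ih v hv).1, fun h3 => (ih v hv).2 (hinj _ (ih v hv).1 h3)⟩
        obtain ⟨v, hv, hv0⟩ := (Submodule.ne_bot_iff U).1 hU0
        exact hv0 ((hpow p v hv).2 (by rw [hb, LinearMap.zero_apply]))
      · refine hUsc ⟨b, fun v hv => ?_⟩
        rw [← h2] at hv
        exact sub_eq_zero.1 hv.2
    · have hss := isSemisimple X hpF hXp
      obtain ⟨Y, -, hYi, hYn, hUY, hYd⟩ := Cfsg.Agent.H950.exists_hull hB (inv_perp hB hc) hss (W := ⊤) (Z := U)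
        inv_top (nd_top hN') hUi le_top hti
      by_cases hYt : Y = ⊤
      · rw [hYt, finrank_top] at hYd
        exact hUsc (hiso U hti hUi (by omega) (by omega))
      · exact hnd Y hYi hYn (fun h2 => hU0 (le_bot_iff.1 (h2 ▸ hUY))) hYt

/-- **Dimension 3.** -/
theorem geo_su_three {F : Type*} {V : Type*} [Field F] [Finite F] [AddCommGroup V] [Module F V]
    [FiniteDimensional F V] {q : ℕ} (hF : Nat.card F = q ^ 2) {σ : F ≃+* F} (hσ : ∀ a, σ a = a ^ q) {h : V → V → F}
    (hh : HForm σ h) {p t : ℕ} [CharP F t] (hp : p.Prime) (X : V ≃ₗ[F] V) {c : F}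
    (hc : ∀ u v, h (X u) (X v) = c * h u v)
    (hXp : Scal F ⇑(X ^ p)) (hN3 : Module.finrank F V = 3)
    (hns : ∀ v, h v v ≠ 0 → (∃ a : F, X v = a • v) → ∃ a : F, ∀ w, h v w = 0 → X w = a • w) :
    Scal F ⇑X ∨ (∀ W : Submodule F V, (∀ v ∈ W, X v ∈ W) → W = ⊥ ∨ W = ⊤) ∨
      (p = t ∧ 3 ≤ p ∧ ∃ (b : F) (D : V →ₗ[F] V), b ≠ 0 ∧ (∀ v, X v = b • v + D v) ∧ (∀ v, D (D (D v)) = 0) ∧
        ∃ v, D (D v) ≠ 0) := by
  classical
  have hB := hh.frm (sig_sq hF hσ)
  have hne := sig_ne hF hσ
  have hN' := hh.nondeg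
  by_cases hS : Scal F ⇑X
  · exact Or.inl hS
  refine Or.inr ?_
  -- no nonsingular eigenvector
  have hno : ∀ v : V, h v v ≠ 0 → ∀ α : F, X v ≠ α • v := by
    intro v hvv α hα
    apply hS
    have hv0 : v ≠ 0 := by
      rintro rfl
      exact hvv (hB.zero_left 0)
    obtain ⟨β, hβ⟩ := hns v hvv ⟨α, hα⟩
    have h1 := finrank_perp hB hN' (F ∙ v)
    rw [finrank_span_singleton hv0] at h1
    obtain ⟨w, hw, hww⟩ : ∃ w ∈ hB.perp (F ∙ v), h w w ≠ 0 := by
      by_contra hc1
      push Not at hc1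
      have h2 := ti_of_diag hB hne hc1
      have h3 := hB.two_mul_finrank_le (nd_top hN') le_top h2
      rw [finrank_top] at h3
      omega
    rw [mem_perp_span hB] at hw
    have hw0 : w ≠ 0 := by
      rintro rfl
      exact hww (hB.zero_left 0)
    have hXw := hβ w hw
    obtain ⟨γ, hγ⟩ := hns w hww ⟨β, hXw⟩
    have h4 : α = γ := by
      have h5 := hγ v (hB.eq_zero_comm.1 hw)
      rw [hα] at h5
      have : (α - γ) • v = 0 := by rw [sub_smul, h5, sub_self]
      exact sub_eq_zero.1 ((smul_eq_zero.1 this).resolve_right hv0)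
    -- a vector orthogonal to both
    have h6 := finrank_perp hB hN' (Submodule.span F {v, w})
    have h7 : finrank F (Submodule.span F {v, w}) ≤ 2 := by
      have := finrank_span_le_card (R := F) ({v, w} : Set V)
      refine this.trans ?_
      rw [Set.toFinset_insert, Set.toFinset_singleton]
      exact Finset.card_le_two
    obtain ⟨u, hu, hu0⟩ := (Submodule.ne_bot_iff (hB.perp (Submodule.span F {v, w}))).1 (by
      intro h8
      rw [h8, finrank_bot] at h6
      omega)
    have huv : h v u = 0 := hB.mem_perp'.1 hu v (Submodule.subset_span (by simp))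
    have huw : h w u = 0 := hB.mem_perp'.1 hu w (Submodule.subset_span (by simp))
    have h9 : β = γ := by
      have h5 := hγ u huw
      rw [hβ u huv] at h5
      have : (β - γ) • u = 0 := by rw [sub_smul, h5, sub_self]
      exact sub_eq_zero.1 ((smul_eq_zero.1 this).resolve_right hu0)
    refine ⟨α, fun y => ?_⟩
    have h10 : y = (h y v / h v v) • v + (y - (h y v / h v v) • v) := by abel
    have h11 : h v (y - (h y v / h v v) • v) = 0 := by
      refine hB.eq_zero_comm.1 ?_
      rw [hB.sub_left, hB.smul_left, div_mul_cancel₀ _ hvv, sub_self]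
    have h12 := hβ _ h11
    have hβα : β = α := h9.trans h4.symm
    rw [h10, map_add, map_smul, hα, h12, hβα, smul_add, smul_comm]
  -- no invariant nondegenerate line or plane
  have hnd1 : ∀ U : Submodule F V, Inv (en X) U → Nd h U → finrank F U = 1 → False := by
    intro U hU hUn hU1
    obtain ⟨v, hv0, hv⟩ := finrank_eq_one_iff'.1 hU1
    have hv1 : (v : V) ≠ 0 := fun h1 => hv0 (Subtype.ext h1)
    obtain ⟨w, hw, hvw⟩ := hUn v v.2 hv1
    obtain ⟨a, ha⟩ := hv ⟨w, hw⟩
    obtain ⟨b, hb⟩ := hv ⟨X v, hU v v.2⟩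
    refine hno v ?_ b (congrArg Subtype.val hb).symm
    intro hvv
    apply hvw
    have ha' : a • (v : V) = w := congrArg Subtype.val ha
    rw [← ha', hB.smul_right, hvv, mul_zero]
  have hnd : ∀ U : Submodule F V, Inv (en X) U → Nd h U → U ≠ ⊥ → U ≠ ⊤ → False := by
    intro U hU hUn hU0 hUt
    have h1 := finrank_perp hB hN' U
    have h2 : finrank F U ≠ 0 := fun h3 => hU0 (Submodule.finrank_eq_zero.1 h3)
    have h3 : finrank F U ≠ 3 := fun h3 => hUt (Submodule.eq_top_of_finrank_eq (by rw [h3, hN3]))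
    have h4 := Submodule.finrank_le U
    rcases (by omega : finrank F U = 1 ∨ finrank F (hB.perp U) = 1) with h5 | h5
    · exact hnd1 U hU hUn h5
    · exact hnd1 _ (inv_perp hB hc U hU) (nd_perp hB hN' hUn) h5
  by_cases hpF : (p : F) = 0
  · right
    have hpt : t = p := by
      have h1 : t ∣ p := (CharP.cast_eq_zero_iff F t p).1 hpF
      rcases (Nat.dvd_prime hp).1 h1 with rfl | rfl
      · exact absurd rfl (CharP.char_ne_one F 1)
      · rfl
    obtain ⟨b, hb⟩ := exists_nilp X hp hpF hXp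
    set D : Module.End F V := en X - b • (1 : Module.End F V) with hD
    have hDv : ∀ v, D v = X v - b • v := fun v => rfl
    have hXv : ∀ v, X v = b • v + D v := fun v => by rw [hDv]; abel
    have hD3 : D ^ 3 = 0 := by
      have h1 : D ^ finrank F V = 0 := by
        have h2 : LinearMap.ker (D ^ finrank F V) = ⊤ := by
          rw [← Module.End.ker_pow_eq_ker_pow_finrank_of_le (m := max p (finrank F V)) (le_max_right _ _)]
          rw [LinearMap.ker_eq_top, ← Nat.sub_add_cancel (le_max_left p (finrank F V)), pow_add, hb, mul_zero]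
        exact LinearMap.ker_eq_top.1 h2
      rwa [hN3] at h1
    have hD2 : ¬ ∀ v, D (D v) = 0 := by
      intro h1
      -- the kernel has dimension at least 2
      have h2 := LinearMap.finrank_range_add_finrank_ker D
      have h3 : finrank F (LinearMap.range D) ≤ finrank F (LinearMap.ker D) := by
        refine Submodule.finrank_mono ?_
        rintro _ ⟨v, rfl⟩
        exact h1 v
      have h4 : ∀ z ∈ LinearMap.ker D, h z z = 0 := by
        intro z hz
        by_contra hzz
        exact hno z hzz b (sub_eq_zero.1 hz)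
      have h5 := ti_of_diag hB hne h4
      have h6 := hB.two_mul_finrank_le (nd_top hN') le_top h5
      rw [finrank_top] at h6
      omega
    push Not at hD2
    refine ⟨hpt.symm, ?_, b, D, ?_, hXv, ?_, hD2⟩
    · by_contra h3
      have h2 : p = 2 := le_antisymm (by omega) hp.two_le
      obtain ⟨v, hv⟩ := hD2
      apply hv
      rw [h2] at hb
      have := LinearMap.congr_fun hb v
      rw [pow_two] at this
      exact this
    · rintro rfl
      obtain ⟨v, hv⟩ := hD2
      apply hv
      have h1 : ∀ v, D v = X v := fun v => by rw [hDv, zero_smul, sub_zero]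
      have h2 : ∀ v, X (X (X v)) = 0 := by
        intro v
        have := LinearMap.congr_fun hD3 v
        rw [← h1 v, ← h1 (D v), ← h1 (D (D v))]
        exact this
      have h3 : v = 0 := by
        apply X.injective
        apply X.injective
        apply X.injective
        rw [h2, map_zero, map_zero, map_zero]
      rw [h3, map_zero, map_zero]
    · intro v
      exact LinearMap.congr_fun hD3 v
  · left
    intro W hW
    by_contra hcon
    push Not at hcon
    obtain ⟨U, hUW, hU⟩ := exists_irr (x := en X) (W := W) hW hcon.1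
    obtain ⟨hU0, hUi, hUm⟩ := hU
    have hUt : U ≠ ⊤ := fun h1 => hcon.2 (top_le_iff.1 (h1 ▸ hUW))
    rcases hUm _ inf_le_left (hUi.inf (inv_perp hB hc U hUi)) with h1 | h1
    · exact hnd U hUi (hB.nd_iff.2 h1) hU0 hUt
    · have hti : TI h U := by
        rw [hB.ti_iff]
        exact inf_eq_left.1 h1
      have hss := isSemisimple X hpF hXp
      obtain ⟨Y, -, hYi, hYn, hUY, hYd⟩ := Cfsg.Agent.H950.exists_hull hB (inv_perp hB hc) hss (W := ⊤) (Z := U)
        inv_top (nd_top hN') hUi le_top hti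
      refine hnd Y hYi hYn (fun h2 => hU0 (le_bot_iff.1 (h2 ▸ hUY))) ?_
      intro h2
      rw [h2, finrank_top, hN3] at hYd
      omega

end Cfsg.Agent.H63.GU
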