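import Cfsg.Agent.H63.GU.Basic

/-!
# S4324, geometry of one unitary similitude (helper63)

`geo_su` : dimension at least 4.
-/

set_option autoImplicit false

namespace Cfsg.Agent.H63.GU

open Module Cfsg.Agent.H951
open Cfsg.Agent.H216.Pi (Scal)

section

variable {F V : Type*} [Field F] [AddCommGroup V] [Module F V] {σ : F ≃+* F} {B : V → V → F}

/-- polarization -/
theorem eq_zero_of_diag (hB : Frm (σ : F →+* F) 1 B) (hne : σ ≠ RingEquiv.refl F)
    (hN : ∀ u, (∀ v, B u v = 0) → u = 0) (D : V →ₗ[F] V) (h : ∀ z, B (D z) z = 0) : ∀ z, D z = 0 := by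
  intro z
  refine hN _ fun y => ?_
  obtain ⟨l, hl⟩ : ∃ l, σ l ≠ l := by
    by_contra hc
    push Not at hc
    exact hne (RingEquiv.ext hc)
  have h1 : ∀ s : F, s * B (D z) y + σ s * B (D y) z = 0 := by
    intro s
    have h2 := h (s • z + y)
    rw [map_add, map_smul, hB.add_left, hB.add_right, hB.add_right, hB.smul_left, hB.smul_left, hB.smul_right,
      hB.smul_right, h z, h y, mul_zero, mul_zero, add_zero, zero_add] at h2
    exact h2
  have h3 := h1 1
  rw [map_one, one_mul, one_mul] at h3
  have h4 := h1 l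
  rw [eq_neg_of_add_eq_zero_right h3, mul_neg, ← sub_eq_add_neg, ← sub_mul] at h4
  exact (mul_eq_zero.1 h4).resolve_left (sub_ne_zero.2 (Ne.symm hl))

variable [Finite F] [FiniteDimensional F V] (hB : Frm (σ : F →+* F) 1 B) (hne : σ ≠ RingEquiv.refl F)
  (hN : ∀ u, (∀ v, B u v = 0) → u = 0) {X : V ≃ₗ[F] V}

include hB hne hN in
/-- **A singular eigenvector.** -/
theorem no_sing {e : ℕ} (he : 2 * e ≤ finrank F V) (hN4 : 4 ≤ finrank F V)
    (hiso : ∀ W : Submodule F V, (∀ u ∈ W, ∀ v ∈ W, B u v = 0) → (∀ v ∈ W, X v ∈ W) → 2 ≤ finrank F W →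
      e ≤ finrank F W → ∃ a : F, ∀ v ∈ W, X v = a • v)
    (hpt : ∀ v, v ≠ 0 → B v v = 0 → (∃ a : F, X v = a • v) → PTs B (⇑X) v)
    {v : V} (hv0 : v ≠ 0) (hvv : B v v = 0) {α : F} (hα : X v = α • v) : ∀ w, X w = α • w := by
  have hsec : ∀ {v : V}, v ≠ 0 → B v v = 0 → X v = α • v → ∀ w, B v w = 0 → ∃ a : F, X w = α • w + a • v :=
    fun h1 h2 h3 => sec_sing hB hne hN he hN4 hiso hpt h1 h2 h3
  have hperp := finrank_perp hB hN (F ∙ v)
  rw [finrank_span_singleton hv0] at hperp
  -- a second one
  obtain ⟨u, hu0, huu, huv, hXu, hvu⟩ : ∃ u : V, u ≠ 0 ∧ B u u = 0 ∧ B v u = 0 ∧ X u = α • u ∧ ∀ a : F, a • v ≠ u := by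
    rcases Nat.lt_or_ge 4 (finrank F V) with h5 | h4
    · -- the kernel of `X - α` on `v^⊥`
      let D : V →ₗ[F] V := (X : V →ₗ[F] V) - α • LinearMap.id
      have hD : ∀ w, D w = X w - α • w := fun w => rfl
      let P := hB.perp (F ∙ v)
      have hPr : finrank F P = finrank F (hB.perp (F ∙ v)) := rfl
      have h1 := LinearMap.finrank_range_add_finrank_ker (D.domRestrict P)
      have h2 : finrank F (LinearMap.range (D.domRestrict P)) ≤ 1 := by
        rw [← finrank_span_singleton (K := F) hv0]
        refine Submodule.finrank_mono ?_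
        rintro _ ⟨w, rfl⟩
        obtain ⟨a, ha⟩ := hsec hv0 hvv hα w ((mem_perp_span hB).1 w.2)
        rw [LinearMap.domRestrict_apply, hD, ha, add_sub_cancel_left]
        exact Submodule.smul_mem _ _ (Submodule.mem_span_singleton_self v)
      have h3 : finrank F (LinearMap.ker (D.domRestrict P)) = finrank F ((LinearMap.ker (D.domRestrict P)).map P.subtype) :=
        (Submodule.finrank_map_subtype_eq _ _).symm
      obtain ⟨w, hw, hw0, hww, hwv⟩ := exists_sing_out hB hne (W := (LinearMap.ker (D.domRestrict P)).map P.subtype)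
        (v := v) ⟨⟨v, (mem_perp_span hB).2 hvv⟩, by
          rw [SetLike.mem_coe, LinearMap.mem_ker, LinearMap.domRestrict_apply, hD, hα, sub_self], rfl⟩ hv0 (by omega)
      obtain ⟨y, hy, rfl⟩ := hw
      rw [SetLike.mem_coe, LinearMap.mem_ker, LinearMap.domRestrict_apply, hD] at hy
      exact ⟨y, hw0, hww, (mem_perp_span hB).1 y.2, sub_eq_zero.1 hy, hwv⟩
    · obtain ⟨w, hw, hw0, hww, hwv⟩ := exists_sing_out hB hne (W := hB.perp (F ∙ v)) (v := v)
        ((mem_perp_span hB).2 hvv) hv0 (by omega)
      rw [mem_perp_span hB] at hw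
      obtain ⟨s, hs⟩ := hsec hv0 hvv hα w hw
      have hwv' : B w v = 0 := hB.eq_zero_comm.1 hw
      have hind : ∀ x y : F, x • v + y • w = 0 → x = 0 ∧ y = 0 := by
        intro x y hxy
        have hy : y = 0 := by
          by_contra hy
          apply hwv (-(x / y))
          have h2 : y • w = -(x • v) := by rw [eq_neg_iff_add_eq_zero, add_comm]; exact hxy
          have h3 : w = y⁻¹ • (y • w) := by rw [smul_smul, inv_mul_cancel₀ hy, one_smul]
          rw [h3, h2, smul_neg, smul_smul, neg_smul]
          congr 2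
          field_simp
        rw [hy, zero_smul, add_zero] at hxy
        exact ⟨(smul_eq_zero.1 hxy).resolve_right hv0, hy⟩
      have hli : LinearIndependent F ![v, w] := LinearIndependent.pair_iff.2 hind
      have hP2 : finrank F (Submodule.span F {v, w}) = 2 := by
        have h1 := finrank_span_eq_card hli
        rw [Fintype.card_fin] at h1
        have h2 : Set.range ![v, w] = {v, w} := by
          rw [Matrix.range_cons, Matrix.range_cons, Matrix.range_empty, Set.union_empty]
          rfl
        rw [h2] at h1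
        exact h1
      obtain ⟨b, hb⟩ := hiso (Submodule.span F {v, w}) (by
        intro y hy z hz
        obtain ⟨y1, y2, rfl⟩ := Submodule.mem_span_pair.1 hy
        obtain ⟨z1, z2, rfl⟩ := Submodule.mem_span_pair.1 hz
        rw [hB.add_left, hB.add_right, hB.add_right, hB.smul_left, hB.smul_left, hB.smul_left, hB.smul_left,
          hB.smul_right, hB.smul_right, hB.smul_right, hB.smul_right, hvv, hw, hwv', hww]
        simp) (by
        intro z hz
        obtain ⟨z1, z2, rfl⟩ := Submodule.mem_span_pair.1 hz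
        rw [Submodule.mem_span_pair]
        refine ⟨z1 * α + z2 * s, z2 * α, ?_⟩
        rw [map_add, map_smul, map_smul, hα, hs, smul_add, smul_smul, smul_smul, smul_smul, add_smul]
        abel) (by omega) (by omega)
      have h10 := hb v (Submodule.mem_span_pair.2 ⟨1, 0, by rw [one_smul, zero_smul, add_zero]⟩)
      have h11 := hb w (Submodule.mem_span_pair.2 ⟨0, 1, by rw [one_smul, zero_smul, zero_add]⟩)
      rw [hα] at h10
      have h12 : α = b := by
        have : (α - b) • v = 0 := by rw [sub_smul, h10, sub_self]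
        exact sub_eq_zero.1 ((smul_eq_zero.1 this).resolve_right hv0)
      exact ⟨w, hw0, hww, hw, by rw [h12]; exact h11, hwv⟩
  -- every point of `⟨v, u⟩` is fixed
  have huv' : B u v = 0 := hB.eq_zero_comm.1 huv
  have hdiag : ∀ z, B (X z - α • z) z = 0 := by
    intro z
    obtain ⟨a, ha0, haa, hXa, haz⟩ : ∃ a : V, a ≠ 0 ∧ B a a = 0 ∧ X a = α • a ∧ B a z = 0 := by
      by_cases h1 : B u z = 0
      · exact ⟨u, hu0, huu, hXu, h1⟩
      · refine ⟨v - (B v z / B u z) • u, ?_, ?_, ?_, ?_⟩
        · intro h2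
          rw [sub_eq_zero] at h2
          generalize B v z / B u z = r at h2
          by_cases h3 : r = 0
          · rw [h3, zero_smul] at h2
            exact hv0 h2
          · apply hvu r⁻¹
            rw [h2, smul_smul, inv_mul_cancel₀ h3, one_smul]
        · rw [hB.sub_left, hB.sub_right, hB.sub_right, hB.smul_left, hB.smul_left, hB.smul_right, hB.smul_right,
            hvv, huv, huv', huu]
          simp
        · rw [map_sub, map_smul, hα, hXu, smul_sub, smul_smul, smul_smul, mul_comm]
        · rw [hB.sub_left, hB.smul_left, div_mul_cancel₀ _ h1, sub_self]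
    obtain ⟨s, hs⟩ := hsec ha0 haa hXa z haz
    rw [hs, add_sub_cancel_left, hB.smul_left, haz, mul_zero]
  have := eq_zero_of_diag hB hne hN ((X : V →ₗ[F] V) - α • LinearMap.id) hdiag
  intro w
  exact sub_eq_zero.1 (this w)

/-- `X` as an endomorphism -/
abbrev en {F V : Type*} [Field F] [AddCommGroup V] [Module F V] (X : V ≃ₗ[F] V) : Module.End F V := (X : V →ₗ[F] V)

theorem en_pow {F V : Type*} [Field F] [AddCommGroup V] [Module F V] (X : V ≃ₗ[F] V) (n : ℕ) (v : V) :
    (en X ^ n) v = (X ^ n) v := by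
  induction n generalizing v with
  | zero => rfl
  | succ n ih =>
    rw [pow_succ, pow_succ, Module.End.mul_apply, LinearEquiv.mul_apply, ih]
    rfl

/-- `X ^ p` a scalar, `p` invertible: `X` is semisimple. -/
theorem isSemisimple {F V : Type*} [Field F] [AddCommGroup V] [Module F V] (X : V ≃ₗ[F] V) {p : ℕ}
    (hp : (p : F) ≠ 0) (hXp : Scal F ⇑(X ^ p)) : (en X).IsSemisimple := by
  obtain ⟨c, hc⟩ := hXp
  by_cases hV : ∀ v : V, v = 0
  · refine Module.End.isSemisimple_of_squarefree_aeval_eq_zero (p := 1) squarefree_one ?_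
    ext v
    rw [hV v, map_zero, map_zero]
  · push Not at hV
    obtain ⟨v, hv⟩ := hV
    have hc0 : c ≠ 0 := by
      rintro rfl
      apply hv
      apply (X ^ p).injective
      rw [hc, zero_smul, map_zero]
    refine Module.End.isSemisimple_of_squarefree_aeval_eq_zero (p := Polynomial.X ^ p - Polynomial.C c)
      (Polynomial.separable_X_pow_sub_C c hp hc0).squarefree ?_
    ext w
    rw [map_sub, map_pow, Polynomial.aeval_X, Polynomial.aeval_C, LinearMap.sub_apply, en_pow, hc]
    simp

/-- `X ^ p` a scalar, `p` the characteristic: `X` is a scalar plus a nilpotent map. -/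
theorem exists_nilp {F V : Type*} [Field F] [Finite F] [AddCommGroup V] [Module F V] (X : V ≃ₗ[F] V) {p : ℕ}
    (hp : p.Prime) (hpF : (p : F) = 0) (hXp : Scal F ⇑(X ^ p)) :
    ∃ b : F, (en X - b • (1 : Module.End F V)) ^ p = 0 := by
  obtain ⟨c, hc⟩ := hXp
  haveI : Fact p.Prime := ⟨hp⟩
  haveI : CharP F p := by
    obtain ⟨r, hr⟩ := CharP.exists F
    have h1 : r ∣ p := (CharP.cast_eq_zero_iff F r p).1 hpF
    rcases (Nat.dvd_prime hp).1 h1 with rfl | rfl
    · exact absurd rfl (CharP.char_ne_one F 1)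
    · exact hr
  obtain ⟨b, hb⟩ := (PerfectRing.bijective_frobenius (R := F) (p := p)).2 c
  have hb' : b ^ p = c := hb
  refine ⟨b, ?_⟩
  by_cases hV : ∀ v : V, v = 0
  · ext v
    rw [hV v, map_zero, map_zero]
  · push Not at hV
    obtain ⟨v, hv⟩ := hV
    haveI : Nontrivial V := ⟨⟨v, 0, hv⟩⟩
    haveI : CharP (Module.End F V) p :=
      charP_of_injective_algebraMap (algebraMap F (Module.End F V)).injective p
    rw [sub_pow_char_of_commute _ ((Commute.one_right _).smul_right b), smul_pow, one_pow, hb']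
    ext w
    rw [LinearMap.sub_apply, en_pow, hc]
    simp

end

end Cfsg.Agent.H63.GU
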