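import Cfsg.Agent.H63.GU.Main

/-!
# S4324, regular unipotent elements of `GU_3` (helper63)

`exists_basis` : a basis of `V` adapted to a regular unipotent isometry of a 3-dimensional hermitian space (odd
characteristic): matrix `[1 1 1; 0 1 2; 0 0 1]`, Gram matrix `a [0 0 1; 0 -1/2 0; 1 0 0]`, `a` real.
-/

set_option autoImplicit false

namespace Cfsg.Agent.H63.GU

open Module Cfsg.Agent.H951
open Cfsg.Agent.H216.Pi (Scal)

section

variable {F V : Type*} [Field F] [AddCommGroup V] [Module F V] {σ : F ≃+* F} {B : V → V → F}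

/-- the logarithm of a regular unipotent isometry is skew -/
theorem skew_log (hB : Frm (σ : F →+* F) 1 B) (h2 : (2 : F) ≠ 0) (U : V ≃ₗ[F] V) (hU : ∀ u v, B (U u) (U v) = B u v)
    (D : V →ₗ[F] V) (hD : ∀ v, U v = v + D v) (hD3 : ∀ v, D (D (D v)) = 0) (u v : V) :
    B (D u - (2⁻¹ : F) • D (D u)) v = - B u (D v - (2⁻¹ : F) • D (D v)) := by
  have hσ2 : (σ : F →+* F) (2⁻¹ : F) = 2⁻¹ := by rw [map_inv₀, map_ofNat]
  have h1 : ∀ u v, B (D u) v = B u (- D v + D (D v)) := by
    intro u v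
    have h3 := hU u (v - D v + D (D v))
    have h4 : U (v - D v + D (D v)) = v := by
      rw [hD, map_add, map_sub, hD3]; abel
    rw [h4, hD, hB.add_left] at h3
    have h5 : v - D v + D (D v) = v + (- D v + D (D v)) := by abel
    rw [h5, hB.add_right] at h3
    exact add_left_cancel h3
  have h6 : ∀ u v, B (D (D u)) v = B u (D (D v)) := by
    intro u v
    rw [h1, h1]
    congr 1
    simp only [map_add, map_neg, hD3, map_zero]
    abel
  rw [hB.sub_left, hB.smul_left, h1, h6, hB.add_right, hB.neg_right, hB.sub_right, hB.smul_right, hσ2]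
  field_simp
  ring

theorem exists_basis [FiniteDimensional F V] (hB : Frm (σ : F →+* F) 1 B) (hne : σ ≠ RingEquiv.refl F)
    (hN : ∀ u, (∀ v, B u v = 0) → u = 0) (h2 : (2 : F) ≠ 0) (h3 : finrank F V = 3)
    (U : V ≃ₗ[F] V) (hU : ∀ u v, B (U u) (U v) = B u v)
    (D : V →ₗ[F] V) (hD : ∀ v, U v = v + D v) (hD3 : ∀ v, D (D (D v)) = 0) (hD2 : ∃ v, D (D v) ≠ 0) :
    ∃ (a : F) (b : Basis (Fin 3) F V), a ≠ 0 ∧ σ a = a ∧ U (b 0) = b 0 ∧ U (b 1) = b 0 + b 1 ∧
      U (b 2) = b 0 + (2 : F) • b 1 + b 2 ∧ B (b 0) (b 0) = 0 ∧ B (b 0) (b 1) = 0 ∧ B (b 1) (b 2) = 0 ∧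
      B (b 2) (b 2) = 0 ∧ B (b 0) (b 2) = a ∧ B (b 1) (b 1) = -(a / 2) := by
  classical
  have hσ2 : (σ : F →+* F) (2⁻¹ : F) = 2⁻¹ := by rw [map_inv₀, map_ofNat]
  have hσσ : ∀ x : F, σ (σ x) = x := hB.sigma_sq
  let T : V →ₗ[F] V := D - (2⁻¹ : F) • (D ∘ₗ D)
  have hT : ∀ v, T v = D v - (2⁻¹ : F) • D (D v) := fun v => rfl
  have hTT : ∀ v, T (T v) = D (D v) := by
    intro v
    rw [hT, hT]
    simp only [map_sub, map_smul, hD3, smul_zero, sub_zero]
  have hT3 : ∀ v, T (T (T v)) = 0 := by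
    intro v
    rw [hTT, hT]
    simp only [map_sub, map_smul, hD3, smul_zero, sub_zero]
  have hsk : ∀ u v, B (T u) v = - B u (T v) := fun u v => skew_log hB h2 U hU D hD hD3 u v
  have hUT : ∀ v, U v = v + T v + (2⁻¹ : F) • T (T v) := by
    intro v
    rw [hTT, hT, hD]; abel
  have hself : ∀ u v, B (T (T u)) v = B u (T (T v)) := fun u v => by rw [hsk, hsk, neg_neg]
  obtain ⟨v, hv⟩ : ∃ v, B (T (T v)) v ≠ 0 := by
    by_contra hc
    push Not at hc
    obtain ⟨w, hw⟩ := hD2
    apply hw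
    have := eq_zero_of_diag hB hne hN (T ∘ₗ T) hc w
    rw [← hTT]
    exact this
  set a : F := B (T (T v)) v with ha
  have hσa : σ a = a := by
    have h4 := hB.herm (T (T v)) v
    rw [one_mul, ← hself] at h4
    exact h4.symm
  have hvT : B v (T (T v)) = a := (hself v v).symm
  -- orthogonality of `v` and `T v`
  set β : F := B v (T v) with hβ
  have hσβ : σ β = -β := by
    have h4 := hB.herm v (T v)
    rw [one_mul, hsk] at h4
    exact h4.symm
  set l : F := β / (2 * a) with hl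
  have hσl : σ l = -l := by
    rw [hl, map_div₀, map_mul, map_ofNat, hσβ, hσa, neg_div]
  set v1 : V := v + l • T v with hv1
  have e1 : B (T v) (T v) = -a := by rw [hsk, hvT]
  have e2 : B (T v) (T (T v)) = 0 := by rw [hsk, hT3, hB.zero_right, neg_zero]
  have e3 : B (T (T v)) (T v) = 0 := hB.eq_zero_comm.1 e2
  have e4 : B (T (T v)) (T (T v)) = 0 := by rw [hself, hT3 (T v), hB.zero_right]
  have hTv1 : T v1 = T v + l • T (T v) := by rw [hv1, map_add, map_smul]
  have hTTv1 : T (T v1) = T (T v) := by rw [hTv1, map_add, map_smul, hT3, smul_zero, add_zero]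
  have h11 : B v1 (T v1) = 0 := by
    rw [hTv1, hv1, hB.add_right, hB.add_left, hB.add_left, hB.smul_left, hB.smul_right, hB.smul_right,
      hB.smul_left, e1, e2, hvT]
    have : (σ : F →+* F) l = -l := hσl
    rw [this, ← hβ, hl]
    field_simp
    ring
  have hγ : σ (B v1 v1) = B v1 v1 := by
    have h4 := hB.herm v1 v1
    rw [one_mul] at h4
    exact h4.symm
  set m : F := -(B v1 v1) / (2 * a) with hm
  have hσm : σ m = m := by rw [hm, map_div₀, map_neg, hγ, map_mul, map_ofNat, hσa]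
  set w : V := v1 + m • T (T v) with hw
  have hTw : T w = T v1 := by rw [hw, map_add, map_smul, hT3, smul_zero, add_zero]
  have hTTw : T (T w) = T (T v) := by rw [hTw, hTTv1]
  have h12 : B (T (T v)) v1 = a := by
    rw [hv1, hB.add_right, hB.smul_right, e3, mul_zero, add_zero]
  have h13 : B v1 (T (T v)) = a := by
    rw [hv1, hB.add_left, hB.smul_left, e2, mul_zero, add_zero, hvT]
  have hww : B w w = 0 := by
    have hσm' : (σ : F →+* F) m = m := hσm
    have h14 : ∀ x y : V, B (x + m • y) (x + m • y) = B x x + m * B y x + m * (B x y + m * B y y) := by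
      intro x y
      rw [hB.add_right, hB.add_left, hB.smul_right, hB.smul_left, hσm', hB.add_left, hB.smul_left]
    rw [hw, h14, h12, h13, e4, hm]
    field_simp
    ring
  have hwT : B w (T w) = 0 := by
    rw [hTw, hw, hB.add_left, h11, hB.smul_left, hTv1, hB.add_right, hB.smul_right, e3, e4]
    ring
  have hwTT : B w (T (T w)) = a := by
    rw [hTTw, hw, hB.add_left, h13, hB.smul_left, e4, mul_zero, add_zero]
  have hTTww : B (T (T w)) w = a := by rw [hself, hwTT]
  have hTwTw : B (T w) (T w) = -a := by rw [hsk, hwTT]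
  have hTw3 : B (T w) (T (T w)) = 0 := by rw [hsk, hT3, hB.zero_right, neg_zero]
  have hTw4 : B (T (T w)) (T w) = 0 := hB.eq_zero_comm.1 hTw3
  have hTw5 : B (T (T w)) (T (T w)) = 0 := by rw [hself, hT3 (T w), hB.zero_right]
  have hTww : B (T w) w = 0 := hB.eq_zero_comm.1 hwT
  -- the basis
  let f : Fin 3 → V := ![(2⁻¹ : F) • T (T w), (2⁻¹ : F) • T w, w]
  have hf0 : f 0 = (2⁻¹ : F) • T (T w) := rfl
  have hf1 : f 1 = (2⁻¹ : F) • T w := rfl
  have hf2 : f 2 = w := rfl
  have hli : LinearIndependent F f := by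
    rw [Fintype.linearIndependent_iff]
    intro g hg
    rw [Fin.sum_univ_three, hf0, hf1, hf2] at hg
    have k0 : B (g 0 • (2⁻¹ : F) • T (T w) + g 1 • (2⁻¹ : F) • T w + g 2 • w) (T (T w)) = 0 := by
      rw [hg, hB.zero_left]
    have k1 : B (g 0 • (2⁻¹ : F) • T (T w) + g 1 • (2⁻¹ : F) • T w + g 2 • w) (T w) = 0 := by
      rw [hg, hB.zero_left]
    have k2 : B (g 0 • (2⁻¹ : F) • T (T w) + g 1 • (2⁻¹ : F) • T w + g 2 • w) w = 0 := by
      rw [hg, hB.zero_left]
    simp only [hB.add_left, hB.smul_left, hTw5, hTw3, hwTT, hTw4, hTwTw, hwT, hTTww, hTww, hww, mul_zero, add_zero,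
      zero_add] at k0 k1 k2
    have g2 : g 2 = 0 := (mul_eq_zero.1 k0).resolve_right hv
    have g1 : g 1 = 0 := by
      rcases mul_eq_zero.1 k1 with h | h
      · exact h
      · exact absurd h (mul_ne_zero (inv_ne_zero h2) (neg_ne_zero.2 hv))
    have g0 : g 0 = 0 := by
      rcases mul_eq_zero.1 k2 with h | h
      · exact h
      · exact absurd h (mul_ne_zero (inv_ne_zero h2) hv)
    intro i
    fin_cases i
    · exact g0
    · exact g1
    · exact g2
  haveI : Nonempty (Fin 3) := ⟨0⟩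
  let b := basisOfLinearIndependentOfCardEqFinrank hli (by rw [Fintype.card_fin, h3])
  have hb : ∀ i, b i = f i := fun i => by rw [coe_basisOfLinearIndependentOfCardEqFinrank]
  refine ⟨2⁻¹ * a, b, mul_ne_zero (inv_ne_zero h2) hv, ?_, ?_, ?_, ?_, ?_, ?_, ?_, ?_, ?_, ?_⟩
  · rw [map_mul, hσa]
    congr 1
  · rw [hb, hf0, hUT, map_smul, hT3, smul_zero, map_zero, smul_zero, add_zero, add_zero]
  · rw [hb, hb, hf0, hf1, hUT, map_smul, map_smul, hT3, smul_zero, smul_zero, add_zero, add_comm]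
  · rw [hb, hb, hb, hf0, hf1, hf2, hUT, smul_smul, mul_inv_cancel₀ h2, one_smul]
    abel
  · rw [hb, hf0, hB.smul_left, hB.smul_right, hTw5, mul_zero, mul_zero]
  · rw [hb, hb, hf0, hf1, hB.smul_left, hB.smul_right, hTw4, mul_zero, mul_zero]
  · rw [hb, hb, hf1, hf2, hB.smul_left, hTww, mul_zero]
  · rw [hb, hf2, hww]
  · rw [hb, hb, hf0, hf2, hB.smul_left, hTTww]
  · rw [hb, hf1, hB.smul_left, hB.smul_right, hTwTw, hσ2]
    field_simp

end

end Cfsg.Agent.H63.GU
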